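import Cfsg.Agent.Lib.Lie.MultExc.UFiveTwo.Table
import Cfsg.Agent.Lib.Spor.SchurCert.LinPacked

/-!
The certificate at the prime 2: a polycyclic sequence of a Sylow subgroup and conjugations.
-/

set_option autoImplicit false
set_option maxRecDepth 100000
set_option maxHeartbeats 0

namespace CfsgLib.Lie.MultExc.UFiveTwo.P2

open CfsgLib.Spor.SchurCert CfsgLib.Lie.MultExc.MatCert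

/-- The Sylow elements. -/
def sw : List (List ℕ) := [
    [0],
    [1],
    [2],
    [3],
    [4],
    [5],
    [6],
    [7],
    [8],
    [9]]

/-- The conjugating elements. -/
def gw : List (List ℕ) := [
    [10],
    [11],
    [12]]

/-- The certificate. -/
def cert : CfsgLib.Spor.SchurCert.Cert where
  p := 2
  m := 10
  N := 2
  rules := [
    ([0, 0], [7]),
    ([1, 1], [5, 6, 8, 9]),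
    ([2, 2], [9]),
    ([3, 3], [6, 9]),
    ([4, 4], [9]),
    ([5, 5], [9]),
    ([6, 6], [9]),
    ([7, 7], []),
    ([8, 8], []),
    ([9, 9], []),
    ([1, 0], [0, 1, 4, 5, 6, 7, 8, 9]),
    ([2, 0], [0, 2, 7, 8]),
    ([2, 1], [1, 2, 5, 7, 8]),
    ([3, 0], [0, 3, 4, 6]),
    ([3, 1], [1, 3, 4, 5, 7, 8]),
    ([3, 2], [2, 3, 4, 5, 6, 8]),
    ([4, 0], [0, 4, 7, 9]),
    ([4, 1], [1, 4, 7, 9]),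
    ([4, 2], [2, 4, 7, 8]),
    ([4, 3], [3, 4, 7]),
    ([5, 0], [0, 5]),
    ([5, 1], [1, 5, 7, 8]),
    ([5, 2], [2, 5, 9]),
    ([5, 3], [3, 5, 8]),
    ([5, 4], [4, 5, 9]),
    ([6, 0], [0, 6, 7, 9]),
    ([6, 1], [1, 6, 7, 8]),
    ([6, 2], [2, 6, 7, 8, 9]),
    ([6, 3], [3, 6]),
    ([6, 4], [4, 6, 9]),
    ([6, 5], [5, 6]),
    ([7, 0], [0, 7]),
    ([7, 1], [1, 7]),
    ([7, 2], [2, 7, 9]),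
    ([7, 3], [3, 7, 9]),
    ([7, 4], [4, 7]),
    ([7, 5], [5, 7]),
    ([7, 6], [6, 7]),
    ([8, 0], [0, 8, 9]),
    ([8, 1], [1, 8]),
    ([8, 2], [2, 8, 9]),
    ([8, 3], [3, 8]),
    ([8, 4], [4, 8]),
    ([8, 5], [5, 8]),
    ([8, 6], [6, 8]),
    ([8, 7], [7, 8]),
    ([9, 0], [0, 9]),
    ([9, 1], [1, 9]),
    ([9, 2], [2, 9]),
    ([9, 3], [3, 9]),
    ([9, 4], [4, 9]),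
    ([9, 5], [5, 9]),
    ([9, 6], [6, 9]),
    ([9, 7], [7, 9]),
    ([9, 8], [8, 9])]
  maps := [
    [([0, 4], [2, 5, 8]), ([2, 5], [2, 5]), ([4, 6, 7], [4, 6, 7]), ([5, 8], [5, 8]), ([7, 8], [2, 7, 9]), ([8], [0, 2, 4, 5, 7, 8]), ([9], [9])],
    [([0, 1, 2, 3], [1, 5]), ([1, 8, 9], [1]), ([4], [0, 2, 3, 5, 7]), ([5, 6, 8], [8]), ([6], [1, 4, 6, 9]), ([7], [7]), ([8], [7, 8, 9]), ([9], [5, 6, 9])],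
    [([0, 6], [0, 4, 7]), ([1, 3, 6], [3, 8]), ([2], [2]), ([3, 5], [0, 1, 2, 4, 5]), ([4, 5], [4, 8]), ([5, 6], [5, 6]), ([6], [4, 5, 7, 8, 9]), ([7], [7]), ([8], [8]), ([9], [9])]]
  overlaps := [
    ([0, 0, 0], [(0, 0), (31, 0)], [(0, 1)]),
    ([2, 2, 2], [(2, 0), (48, 0)], [(2, 1)]),
    ([4, 4, 4], [(4, 0), (50, 0)], [(4, 1)]),
    ([5, 5, 5], [(5, 0), (51, 0)], [(5, 1)]),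
    ([6, 6, 6], [(6, 0), (52, 0)], [(6, 1)]),
    ([3, 3, 3], [(3, 0), (49, 1), (28, 0)], [(3, 1)]),
    ([5, 5, 0], [(5, 0), (46, 0)], [(20, 1), (20, 0), (5, 1)]),
    ([5, 0, 0], [(0, 1)], [(20, 0), (20, 1), (0, 0), (36, 0)]),
    ([6, 6, 3], [(6, 0), (49, 0)], [(28, 1), (28, 0), (6, 1)]),
    ([7, 7, 2], [(7, 0)], [(33, 1), (33, 0), (53, 2), (7, 1), (9, 1)]),
    ([8, 3, 3], [(3, 1), (44, 0)], [(41, 0), (41, 1), (3, 0), (54, 1)]),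
    ([4, 3, 3], [(3, 1)], [(19, 0), (34, 2), (19, 1), (3, 0), (50, 1), (29, 0), (9, 2), (7, 2)]),
    ([5, 5, 3], [(5, 0), (49, 0)], [(23, 1), (23, 0), (43, 2), (5, 1), (54, 1), (54, 2), (8, 1)]),
    ([5, 3, 3], [(3, 1)], [(23, 0), (41, 2), (23, 1), (3, 0), (51, 1), (30, 0), (54, 2), (54, 3), (8, 2)]),
    ([1, 1, 1], [(1, 0), (47, 3), (39, 2), (26, 1), (21, 0), (44, 3), (37, 2), (45, 4), (7, 3), (8, 3)], [(1, 1)]),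
    ([5, 3, 0], [(23, 0), (38, 2), (20, 1), (13, 0), (30, 3)], [(13, 1), (20, 0), (23, 1), (42, 3), (24, 2), (54, 4), (52, 5), (44, 4)]),
    ([3, 3, 0], [(3, 0), (46, 1), (25, 0), (9, 3)], [(13, 1), (13, 0), (28, 3), (19, 2), (3, 1), (50, 2), (29, 1), (9, 3), (37, 3), (6, 2), (53, 2), (50, 3), (35, 2), (4, 1), (53, 1), (9, 2), (37, 1)]),
    ([3, 3, 1], [(3, 0), (47, 1), (26, 0)], [(14, 1), (14, 0), (41, 5), (34, 4), (23, 3), (19, 2), (3, 1), (50, 2), (29, 1), (9, 3), (36, 3), (30, 2), (45, 5), (7, 4), (54, 5), (8, 4), (50, 4), (29, 3), (24, 2), (4, 1), (51, 1), (9, 2), (9, 3), (30, 2), (5, 1), (52, 1), (53, 2), (54, 3)])]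
  fuses := [
    ⟨2, [2, 2], [9], [(2, 0)], [], [(2, 0)], []⟩,
    ⟨1, [5, 1], [1, 5], [(32, 0)], [(53, 2), (45, 1)], [(32, 0)], []⟩,
    ⟨1, [5, 3], [3, 5], [(36, 0), (37, 1)], [(45, 2)], [], [(45, 0)]⟩,
    ⟨2, [7, 4], [4, 7], [(35, 0), (36, 1)], [], [(35, 0)], [(45, 1)]⟩,
    ⟨2, [9, 4], [4, 9], [(50, 0), (51, 1)], [], [(50, 0), (54, 1)], []⟩,
    ⟨1, [5, 4], [4, 5], [(37, 0)], [], [(32, 0), (35, 1), (37, 2)], [(53, 3)]⟩,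
    ⟨2, [9, 1], [1, 9], [(47, 0), (49, 1), (52, 2)], [], [(49, 0), (54, 1)], []⟩,
    ⟨2, [8, 4], [4, 8], [(42, 0), (43, 1)], [], [(42, 0), (8, 1)], [(8, 1)]⟩,
    ⟨2, [7, 0], [0, 7], [(31, 0), (37, 1)], [], [(31, 0), (35, 1), (7, 2)], [(7, 2)]⟩,
    ⟨2, [8, 1], [1, 8], [(39, 0), (41, 1), (44, 2)], [], [(41, 0), (8, 1)], [(8, 1)]⟩,
    ⟨1, [6, 6], [], [(8, 0)], [], [(53, 2), (45, 1), (7, 0), (54, 1), (8, 0), (9, 0)], []⟩,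
    ⟨2, [8, 6], [6, 8], [(44, 0)], [], [(42, 0), (43, 1), (45, 2), (8, 3)], [(54, 4), (8, 3)]⟩,
    ⟨1, [5, 0], [0, 5], [(31, 0), (32, 1), (33, 2), (49, 4), (34, 3), (9, 5)], [], [(32, 0), (36, 1)], []⟩,
    ⟨1, [7, 7], [], [(9, 0)], [], [(51, 2), (30, 1), (5, 0), (52, 0), (9, 1), (6, 0), (9, 0)], []⟩,
    ⟨2, [4, 2], [2, 4, 7, 8, 9], [(22, 1), (18, 0), (43, 3), (36, 2)], [], [(40, 1), (18, 0), (8, 3)], [(45, 2), (8, 3)]⟩,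
    ⟨0, [1, 1], [6], [(22, 1), (2, 0), (51, 0), (9, 1), (5, 0)], [], [(22, 1), (2, 0), (51, 0), (9, 1), (5, 0)], []⟩,
    ⟨1, [4, 3], [3, 4], [(30, 0), (6, 1), (54, 1)], [(44, 2), (6, 1), (54, 1)], [(54, 3)], [(39, 0), (42, 1), (44, 2)]⟩,
    ⟨2, [8, 3], [3, 8], [(41, 0), (43, 1)], [], [(38, 0), (47, 2), (39, 1), (48, 3), (40, 2), (9, 4), (42, 3), (43, 4)], []⟩,
    ⟨2, [4, 4], [9], [(24, 1), (4, 0), (51, 0), (9, 1), (5, 0)], [], [(42, 1), (4, 0), (54, 0), (54, 1), (8, 0)], []⟩,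
    ⟨0, [4, 4], [], [(45, 1), (7, 0), (8, 0)], [], [(48, 2), (33, 1), (2, 0), (53, 0), (9, 1), (53, 1), (7, 0), (9, 0)], []⟩,
    ⟨1, [3, 2], [2, 3], [(42, 2), (29, 1), (24, 0), (52, 2), (9, 3)], [], [(38, 0), (48, 2), (40, 1), (9, 3), (41, 2), (43, 3), (45, 4)], []⟩,
    ⟨2, [5, 2], [2, 5, 7, 8], [(27, 1), (22, 0), (52, 2), (53, 3), (54, 4), (9, 5)], [], [(27, 1), (22, 0), (52, 2), (53, 3), (54, 4), (9, 5)], []⟩,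
    ⟨2, [2, 0], [0, 2, 9], [(11, 0), (44, 3), (37, 2)], [(27, 1), (9, 5)], [(11, 0), (42, 3), (35, 2), (45, 4), (7, 3)], [(33, 2), (18, 1), (45, 4), (7, 3), (9, 4)]⟩,
    ⟨0, [0, 0], [], [(16, 1), (0, 0), (35, 0), (7, 1), (50, 1), (4, 0), (9, 0)], [], [(40, 2), (22, 1), (2, 0), (51, 0), (9, 1), (51, 2), (43, 1), (5, 0), (54, 0), (9, 1), (8, 0)], []⟩,
    ⟨2, [6, 6], [9], [(6, 0)], [], [(50, 4), (42, 3), (35, 2), (24, 1), (4, 0), (51, 0), (9, 1), (51, 3), (43, 2), (36, 1), (5, 0), (53, 0), (54, 1), (9, 2), (45, 1), (7, 0), (8, 0)], []⟩,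
    ⟨2, [0, 0], [], [(25, 1), (0, 0), (37, 0), (7, 1), (52, 1), (6, 0), (9, 0)], [], [(31, 2), (16, 1), (0, 0), (35, 0), (7, 1), (53, 1), (50, 2), (35, 1), (4, 0), (53, 0), (9, 1), (7, 0)], []⟩,
    ⟨0, [3, 0], [0, 3], [(38, 1), (20, 0), (50, 3), (42, 2), (24, 1), (54, 3), (9, 4)], [], [(40, 1), (22, 0), (54, 2), (9, 3), (43, 2), (5, 1), (54, 1), (54, 2), (8, 1)], [(43, 2), (5, 1), (54, 1), (54, 2), (8, 1)]⟩,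
    ⟨2, [5, 1], [1, 5, 8], [(26, 1), (21, 0), (44, 3), (37, 2), (45, 4), (7, 3), (8, 3), (28, 2), (23, 1), (44, 3), (44, 4), (6, 3), (54, 3)], [(30, 2), (6, 3), (54, 3)], [(28, 1), (23, 0), (44, 2), (8, 3)], [(43, 1), (44, 2), (8, 3)]⟩,
    ⟨2, [4, 1], [1, 4, 7], [(21, 1), (17, 0), (51, 3), (36, 2), (53, 4), (7, 3), (54, 3), (49, 4), (41, 3), (23, 2), (19, 1), (36, 3), (8, 5), (52, 5), (37, 4)], [(29, 2), (51, 4), (30, 3), (53, 5)], [(41, 1), (19, 0), (8, 3)], [(42, 1), (8, 2)]⟩,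
    ⟨0, [1, 0], [0, 1, 6], [(20, 1), (11, 0), (43, 3), (36, 2), (42, 4), (35, 3), (24, 2), (53, 4), (54, 5)], [(18, 1), (43, 4), (36, 3)], [(22, 1), (2, 0), (51, 0), (9, 1), (5, 0), (54, 0)], [(40, 2), (22, 1), (2, 0), (51, 0), (9, 1), (51, 2), (43, 1), (5, 0), (54, 0), (9, 1)]⟩,
    ⟨1, [4, 4], [7], [(6, 0)], [], [(47, 3), (26, 2), (17, 1), (1, 0), (50, 3), (42, 2), (29, 1), (24, 0), (52, 2), (9, 3), (53, 4), (45, 3), (9, 5), (44, 4), (37, 3), (6, 2), (53, 2), (54, 3), (53, 4), (45, 3), (7, 2), (54, 3), (8, 2), (9, 2), (24, 1), (4, 0), (51, 0), (9, 1)], []⟩,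
    ⟨1, [7, 2], [2, 7], [(50, 0)], [], [(46, 2), (25, 1), (20, 0), (9, 4), (33, 3), (27, 2), (22, 1), (52, 3), (53, 4), (54, 5), (9, 6), (45, 5), (7, 4), (49, 5), (41, 4), (28, 3), (23, 2), (44, 4), (8, 5), (51, 5), (30, 4), (5, 3), (52, 3), (9, 4)], [(36, 4), (5, 3), (53, 3), (52, 4), (37, 3), (9, 5)]⟩,
    ⟨2, [3, 2], [2, 3, 4, 6, 8], [(22, 1), (15, 0), (43, 5), (30, 4), (5, 3), (52, 3), (54, 4), (9, 5)], [(24, 2), (51, 4), (5, 3), (9, 3)], [(22, 4), (18, 3), (2, 2), (50, 2), (53, 3), (54, 4), (51, 5), (43, 4), (36, 3), (9, 6)], [(11, 0), (39, 3), (32, 2), (12, 1), (45, 5), (7, 4), (8, 4), (22, 3), (2, 2), (51, 2), (9, 3), (24, 2), (51, 4), (5, 3), (9, 3), (4, 2), (54, 2), (50, 3), (42, 2), (51, 4), (43, 3), (53, 5), (45, 4), (54, 6), (8, 5), (9, 5)]⟩,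
    ⟨2, [2, 1], [1, 2, 4, 5], [(12, 0), (41, 4), (34, 3), (23, 2), (45, 4), (54, 6), (8, 5), (52, 5), (37, 4)], [(27, 2), (15, 1), (44, 6), (6, 5), (54, 5), (53, 6), (45, 5), (54, 7), (8, 6), (9, 6), (35, 5), (24, 4), (4, 3), (51, 3), (9, 4), (36, 4), (5, 3), (53, 3), (51, 4), (36, 3), (52, 5), (37, 4)], [], [(40, 1), (15, 0), (8, 5), (50, 5), (29, 4), (24, 3), (4, 2), (51, 2), (9, 3), (9, 4), (43, 4), (30, 3), (5, 2), (52, 2), (54, 3), (52, 4), (44, 3), (6, 2), (54, 2), (9, 3)]⟩,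
    ⟨1, [4, 0], [0, 4, 5], [(25, 0), (47, 3), (32, 2), (26, 1), (45, 4), (7, 3), (48, 4), (40, 3), (27, 2), (54, 6), (8, 5), (9, 5), (49, 5), (34, 4), (28, 3), (9, 6)], [], [(47, 3), (26, 2), (17, 1), (1, 0), (50, 3), (42, 2), (29, 1), (24, 0), (52, 2), (9, 3), (53, 4), (45, 3), (9, 5), (44, 4), (37, 3), (6, 2), (53, 2), (54, 3), (53, 4), (45, 3), (7, 2), (54, 3), (8, 2), (9, 2), (5, 1)], [(21, 1), (1, 0), (51, 3), (43, 2), (30, 1), (5, 0), (52, 0), (54, 1), (9, 2), (45, 1), (8, 2), (35, 1), (29, 0), (53, 2), (52, 3), (37, 2), (6, 1), (53, 1), (9, 2), (53, 2), (7, 1)]⟩,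
    ⟨2, [1, 1], [4, 5, 6, 7], [(26, 2), (14, 1), (1, 0), (49, 3), (41, 2), (28, 1), (23, 0), (44, 2), (8, 3), (50, 3), (29, 2), (24, 1), (52, 3), (9, 4), (51, 4), (30, 3), (5, 2), (52, 2), (9, 3), (44, 4), (37, 3), (6, 2), (53, 2), (54, 3), (53, 4), (45, 3), (7, 2), (54, 3), (8, 2), (49, 2), (19, 1), (3, 0), (50, 1), (29, 0), (9, 2), (52, 3), (37, 2), (6, 1), (53, 1), (9, 2)], [(5, 1), (52, 1), (52, 2), (6, 1), (9, 1)], [(41, 1), (3, 0), (54, 1), (54, 2), (8, 1)], [(43, 1), (44, 2), (42, 3), (29, 2), (24, 1), (4, 0), (51, 0), (9, 1), (54, 2), (51, 3), (43, 2), (30, 1), (5, 0), (52, 0), (54, 1), (9, 2), (45, 1), (8, 2), (53, 2), (7, 1)]⟩,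
    ⟨1, [2, 2], [7], [(4, 0)], [], [(31, 4), (20, 3), (13, 2), (11, 1), (0, 0), (33, 0), (53, 2), (7, 1), (54, 1), (49, 2), (41, 1), (50, 3), (42, 2), (52, 4), (44, 3), (51, 5), (43, 4), (30, 3), (53, 6), (45, 5), (48, 7), (40, 6), (33, 5), (27, 4), (22, 3), (18, 2), (15, 1), (2, 0), (49, 0), (50, 1), (51, 2), (52, 3), (54, 4), (50, 5), (42, 4), (29, 3), (24, 2), (4, 1), (51, 1), (9, 2), (54, 3), (9, 4), (45, 3), (8, 4), (36, 3), (30, 2), (5, 1), (52, 1), (53, 2), (9, 3), (37, 2), (6, 1), (53, 1), (53, 2), (7, 1), (54, 1), (9, 2), (45, 1), (54, 3), (8, 2), (9, 2), (49, 2), (34, 1), (3, 0), (53, 1), (9, 2), (51, 2), (36, 1), (30, 0), (53, 3), (7, 2)], []⟩,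
    ⟨1, [2, 1], [1, 2, 5, 7], [(17, 0), (54, 3), (9, 4)], [(50, 2), (42, 1), (53, 3), (45, 2), (9, 4)], [(32, 4), (21, 3), (14, 2), (12, 1), (41, 5), (34, 4), (23, 3), (45, 5), (54, 7), (8, 6), (50, 6), (35, 5), (24, 4), (53, 6), (9, 7), (36, 6), (5, 5), (53, 5), (53, 6), (7, 5), (54, 5), (51, 6), (43, 5), (53, 7), (45, 6), (54, 8), (8, 7), (53, 7), (7, 6)], [(10, 0), (48, 7), (40, 6), (33, 5), (27, 4), (22, 3), (18, 2), (43, 5), (36, 4), (52, 7), (44, 6), (37, 5), (53, 8), (45, 7), (7, 6), (54, 7), (8, 6), (9, 6), (54, 7), (9, 8), (49, 8), (41, 7), (34, 6), (28, 5), (23, 4), (19, 3), (36, 5), (44, 7), (37, 6), (45, 8), (7, 7), (54, 8), (8, 7), (9, 7), (30, 6), (5, 5), (52, 5), (53, 6), (53, 7), (7, 6), (51, 6), (30, 5), (52, 7), (6, 6), (9, 6)]⟩,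
    ⟨2, [1, 0], [0, 1, 5, 6, 8, 9], [(25, 2), (13, 1), (10, 0), (49, 7), (41, 6), (34, 5), (28, 4), (23, 3), (19, 2), (36, 4), (44, 6), (37, 5), (45, 7), (7, 6), (54, 7), (8, 6), (9, 6), (29, 5), (24, 4), (4, 3), (51, 3), (9, 4), (52, 5), (6, 4), (9, 4), (52, 6), (37, 5), (6, 4), (53, 4), (9, 5)], [(26, 1), (41, 4), (34, 3), (28, 2), (54, 5), (52, 6), (44, 5), (37, 4), (6, 3), (53, 3), (54, 4), (9, 5), (43, 4), (36, 3), (44, 5), (37, 4), (44, 6), (37, 5), (6, 4), (53, 4), (54, 5), (54, 6), (8, 5), (9, 5)], [(38, 1), (13, 0), (50, 5), (42, 4), (29, 3), (4, 2), (52, 2), (9, 3), (53, 4), (45, 3)], [(34, 2), (19, 1), (7, 3), (54, 3), (51, 4), (43, 3), (52, 5), (44, 4), (50, 6), (42, 5), (29, 4), (24, 3), (4, 2), (51, 2), (9, 3), (54, 4), (9, 5), (43, 4), (30,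 3), (5, 2), (52, 2), (54, 3), (53, 4), (45, 3), (54, 5), (8, 4), (9, 4)]⟩,
    ⟨2, [3, 1], [1, 3, 4, 7], [(21, 1), (14, 0), (43, 5), (36, 4), (5, 3), (53, 3), (54, 4), (53, 5), (45, 4), (7, 3), (54, 4), (8, 3), (49, 3), (19, 2), (3, 1), (50, 2), (29, 1), (9, 3), (52, 4), (37, 3), (6, 2), (53, 2), (9, 3)], [(28, 2), (3, 1), (52, 2), (6, 1), (9, 1), (24, 1), (51, 3), (5, 2), (9, 2)], [(23, 4), (19, 3), (36, 5), (8, 7)], [(38, 1), (13, 0), (47, 5), (39, 4), (26, 3), (17, 2), (14, 1), (42, 6), (35, 5), (24, 4), (4, 3), (51, 3), (9, 4), (45, 5), (7, 4), (52, 5), (44, 4), (53, 6), (45, 5), (54, 7), (8, 6), (54, 6), (9, 7), (40, 6), (33, 5), (27, 4), (22, 3), (15, 2), (43, 7), (30, 6), (5, 5), (52, 5), (54, 6), (9, 7), (44, 6), (6, 5), (54, 5), (53, 6), (45, 5),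 (54, 7), (8, 6), (9, 6), (7, 5), (54, 5), (9, 6), (42, 5), (4, 4), (54, 4), (51, 5), (43, 4), (50, 6), (42, 5), (24, 4), (54, 6), (9, 7), (8, 6)]⟩]
  adj := [
    [],
    [],
    [],
    [],
    [(0, 1), (1, 1), (10, 1)],
    [(0, 1), (1, 1), (3, 1), (11, 1)],
    [(2, 1), (3, 1)],
    [(0, 1)],
    [(0, 1), (11, 1)],
    [(2, 1)]]
  base := []
  dense := [
    [0, 0, 0, 0, 0, 0, 0, 0, 0, 0, 0, 0, 0, 0, 0, 0, 0, 0, 0, 0, 0, 0, 0, 0, 0, 0, 0, 0, 0, 0, 0, 1],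
    [0, 0, 0, 0, 0, 0, 0, 0, 0, 0, 0, 0, 0, 0, 0, 0, 0, 0, 0, 0, 0, 0, 0, 0, 0, 0, 0, 0, 0, 0, 0, 0, 0, 0, 0, 0, 0, 0, 0, 0, 0, 0, 0, 0, 0, 0, 0, 0, 1],
    [0, 0, 0, 0, 0, 0, 0, 0, 0, 0, 0, 0, 0, 0, 0, 0, 0, 0, 0, 0, 0, 0, 0, 0, 0, 0, 0, 0, 0, 0, 0, 0, 0, 0, 0, 0, 0, 0, 0, 0, 0, 0, 0, 0, 0, 0, 0, 0, 0, 0, 1],
    [0, 0, 0, 0, 0, 0, 0, 0, 0, 0, 0, 0, 0, 0, 0, 0, 0, 0, 0, 0, 0, 0, 0, 0, 0, 0, 0, 0, 0, 0, 0, 0, 0, 0, 0, 0, 0, 0, 0, 0, 0, 0, 0, 0, 0, 0, 0, 0, 0, 0, 0, 1],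
    [0, 0, 0, 0, 0, 0, 0, 0, 0, 0, 0, 0, 0, 0, 0, 0, 0, 0, 0, 0, 0, 0, 0, 0, 0, 0, 0, 0, 0, 0, 0, 0, 0, 0, 0, 0, 0, 0, 0, 0, 0, 0, 0, 0, 0, 0, 0, 0, 0, 0, 0, 0, 1],
    [0, 0, 0, 0, 0, 0, 0, 0, 0, 0, 0, 0, 0, 0, 0, 0, 0, 0, 0, 0, 0, 0, 0, 0, 0, 0, 0, 0, 1, 0, 0, 0, 0, 0, 0, 0, 0, 0, 0, 0, 0, 0, 0, 0, 0, 0, 0, 0, 0, 1],
    [0, 0, 0, 0, 0, 0, 0, 0, 0, 0, 0, 0, 0, 0, 0, 0, 0, 0, 0, 0, 0, 0, 0, 0, 0, 0, 0, 0, 0, 0, 0, 0, 0, 0, 0, 0, 0, 0, 0, 0, 0, 0, 0, 0, 0, 0, 1],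
    [0, 0, 0, 0, 0, 0, 0, 0, 0, 0, 0, 0, 0, 0, 0, 0, 0, 0, 0, 0, 0, 0, 0, 0, 0, 0, 0, 0, 0, 0, 0, 0, 0, 0, 0, 0, 1],
    [0, 0, 0, 0, 0, 0, 0, 0, 0, 0, 0, 0, 0, 0, 0, 0, 0, 0, 0, 0, 0, 0, 0, 0, 0, 0, 0, 0, 0, 0, 0, 0, 0, 0, 0, 0, 0, 0, 0, 0, 0, 0, 0, 0, 0, 0, 0, 0, 0, 1],
    [0, 0, 0, 0, 0, 0, 0, 0, 0, 1, 0, 0, 0, 0, 0, 0, 0, 0, 0, 0, 0, 0, 0, 0, 0, 0, 0, 0, 0, 0, 0, 0, 0, 0, 0, 0, 0, 0, 0, 0, 0, 0, 0, 0, 0, 0, 0, 0, 0, 0, 0, 0, 0, 1],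
    [0, 0, 0, 0, 0, 0, 0, 0, 0, 0, 0, 0, 0, 0, 0, 0, 0, 0, 0, 0, 0, 0, 0, 0, 0, 0, 0, 0, 0, 0, 0, 0, 0, 0, 0, 0, 0, 0, 0, 0, 0, 0, 0, 0, 1, 0, 0, 0, 0, 0, 0, 0, 0, 0, 1],
    [0, 0, 0, 0, 0, 0, 0, 1, 0, 1, 0, 0, 0, 0, 0, 0, 0, 0, 0, 0, 0, 0, 0, 0, 0, 0, 0, 0, 0, 1, 0, 0, 0, 0, 1, 0, 0, 0, 0, 0, 0, 0, 0, 0, 0, 0, 0, 0, 0, 0, 1],
    [0, 0, 0, 0, 0, 0, 0, 0, 1, 0, 0, 0, 0, 0, 0, 0, 0, 0, 0, 0, 0, 0, 0, 0, 0, 0, 0, 0, 0, 0, 0, 0, 0, 0, 0, 0, 0, 0, 0, 0, 0, 0, 0, 1, 0, 0, 0, 0, 0, 1],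
    [0, 0, 0, 0, 0, 0, 0, 0, 1, 0, 0, 0, 0, 0, 0, 0, 0, 0, 0, 0, 0, 0, 0, 0, 0, 0, 0, 0, 0, 0, 1, 0, 0, 0, 0, 0, 0, 0, 0, 0, 0, 1, 0, 0, 0, 0, 0, 0, 0, 0, 0, 1],
    [0, 0, 0, 0, 0, 0, 0, 1, 1, 0, 0, 0, 0, 0, 0, 0, 0, 0, 0, 0, 0, 1, 0, 0, 0, 0, 1, 0, 0, 0, 0, 0, 0, 0, 0, 0, 0, 1, 0, 1, 0, 0, 0, 0, 1, 1, 0, 1],
    [0, 0, 0, 0, 0, 0, 0, 0, 0, 0, 0, 0, 0, 0, 0, 0, 0, 0, 0, 0, 0, 0, 0, 0, 1, 0, 0, 0, 0, 0, 1, 0, 0, 0, 0, 0, 0, 0, 1, 0, 0, 0, 1, 0, 1, 0, 0, 0, 0, 0, 0, 0, 1, 0, 1],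
    [0, 0, 0, 0, 1, 0, 1, 0, 0, 1, 0, 0, 0, 0, 0, 0, 0, 0, 0, 1, 0, 0, 0, 0, 0, 1, 0, 0, 1, 1, 0, 0, 0, 0, 0, 1, 0, 0, 0, 0, 0, 0, 0, 0, 0, 0, 1],
    [0, 0, 0, 0, 1, 1, 0, 1, 1, 1, 0, 0, 0, 0, 0, 0, 0, 0, 0, 1, 0, 0, 0, 1, 1, 0, 1, 0, 0, 0, 0, 0, 0, 0, 1, 0, 1, 0, 0, 0, 0, 1, 0, 0, 0, 1, 0, 1, 0, 0, 0, 1, 1, 1],
    [0, 0, 0, 0, 0, 0, 0, 0, 0, 0, 0, 0, 0, 0, 0, 0, 0, 0, 0, 0, 0, 0, 0, 0, 0, 0, 0, 0, 0, 0, 0, 0, 0, 0, 0, 0, 0, 0, 0, 0, 0, 0, 0, 0, 0, 0, 0, 0, 0, 0, 0, 0, 0, 0, 0, 0, 0, 0, 0, 0, 0, 0, 0, 0, 0, 0, 0, 0, 0, 0, 0, 0, 0, 0, 0, 0, 0, 0, 0, 0, 0, 0, 0, 0, 1],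
    [0, 0, 0, 0, 0, 0, 0, 0, 0, 0, 0, 0, 0, 0, 0, 0, 0, 0, 0, 0, 0, 0, 0, 0, 0, 0, 0, 0, 0, 0, 0, 0, 0, 0, 0, 0, 0, 0, 0, 0, 0, 0, 0, 0, 0, 1, 0, 0, 0, 0, 0, 0, 0, 1],
    [0, 0, 0, 0, 0, 0, 0, 0, 0, 0, 0, 0, 0, 0, 0, 0, 0, 0, 0, 0, 0, 0, 0, 0, 0, 0, 0, 0, 0, 0, 0, 0, 0, 0, 0, 0, 1, 1],
    [0, 0, 0, 0, 0, 0, 0, 0, 0, 0, 0, 0, 0, 0, 0, 0, 0, 0, 0, 0, 0, 0, 0, 0, 0, 0, 0, 0, 0, 0, 0, 0, 0, 0, 0, 0, 1, 0, 0, 0, 0, 0, 0, 0, 0, 1],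
    [0, 0, 0, 0, 0, 0, 0, 0, 0, 0, 0, 0, 0, 0, 0, 0, 0, 0, 0, 0, 0, 0, 0, 0, 0, 0, 0, 0, 0, 0, 0, 0, 0, 0, 0, 0, 0, 0, 0, 0, 0, 0, 0, 0, 0, 0, 0, 0, 0, 0, 0, 1, 0, 0, 1],
    [0, 0, 0, 0, 0, 0, 0, 0, 0, 0, 0, 0, 0, 0, 0, 0, 0, 0, 0, 0, 0, 0, 0, 0, 0, 0, 0, 0, 0, 0, 0, 0, 1, 0, 0, 1, 0, 0, 0, 0, 0, 0, 0, 0, 0, 0, 0, 0, 0, 0, 0, 0, 0, 1],
    [0, 0, 0, 0, 0, 0, 0, 0, 0, 0, 0, 0, 0, 0, 0, 0, 0, 0, 0, 0, 0, 0, 0, 0, 0, 0, 0, 0, 0, 0, 0, 0, 0, 0, 0, 0, 0, 0, 0, 0, 0, 0, 0, 0, 0, 0, 0, 1, 0, 0, 0, 0, 1, 0, 1],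
    [0, 0, 0, 0, 0, 0, 0, 0, 0, 0, 0, 0, 0, 0, 0, 0, 0, 0, 0, 0, 0, 0, 0, 0, 0, 0, 0, 0, 0, 0, 0, 0, 0, 0, 0, 0, 0, 0, 0, 0, 0, 0, 0, 1],
    [0, 0, 0, 0, 0, 0, 0, 0, 0, 0, 0, 0, 0, 0, 0, 0, 0, 0, 0, 0, 0, 0, 0, 0, 0, 0, 0, 0, 0, 0, 0, 0, 0, 0, 0, 1, 0, 1],
    [0, 0, 0, 0, 0, 0, 0, 0, 0, 0, 0, 0, 0, 0, 0, 0, 0, 0, 0, 0, 0, 0, 0, 0, 0, 0, 0, 0, 0, 0, 0, 0, 0, 0, 0, 0, 0, 0, 0, 1, 0, 0, 0, 0, 1],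
    [0, 0, 0, 0, 0, 0, 0, 1, 0, 1, 0, 0, 0, 0, 0, 0, 0, 0, 0, 0, 0, 0, 0, 0, 0, 0, 0, 0, 0, 0, 0, 0, 0, 0, 0, 0, 0, 0, 0, 0, 0, 0, 0, 0, 0, 1, 0, 0, 0, 0, 0, 0, 0, 1, 1],
    [0, 0, 0, 0, 0, 0, 0, 0, 0, 0, 0, 0, 0, 0, 0, 0, 0, 0, 0, 0, 0, 0, 0, 0, 0, 0, 0, 0, 0, 0, 0, 0, 0, 0, 0, 0, 0, 0, 0, 0, 0, 0, 1, 1, 1, 1, 0, 0, 0, 0, 0, 0, 0, 0, 1],
    [0, 0, 0, 0, 0, 0, 0, 0, 0, 1, 0, 0, 0, 0, 0, 0, 0, 0, 0, 0, 0, 0, 0, 0, 0, 0, 0, 0, 0, 0, 0, 1, 0, 1, 1, 0, 1, 0, 0, 0, 0, 0, 0, 0, 0, 0, 0, 0, 0, 1],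
    [0, 0, 0, 0, 0, 1, 1, 0, 0, 1, 0, 0, 0, 0, 0, 0, 0, 0, 0, 0, 0, 0, 0, 0, 0, 0, 0, 0, 0, 0, 1, 0, 0, 0, 0, 0, 0, 0, 0, 0, 0, 0, 0, 0, 0, 0, 0, 0, 0, 0, 0, 1, 1],
    [0, 0, 0, 0, 0, 0, 0, 0, 0, 0, 0, 0, 0, 0, 0, 0, 0, 0, 0, 0, 0, 0, 1, 0, 0, 0, 0, 0, 0, 0, 0, 0, 0, 0, 0, 0, 1, 0, 0, 0, 1, 0, 0, 1, 0, 1, 0, 0, 0, 0, 0, 0, 0, 0, 0, 0, 0, 0, 0, 0, 0, 0, 0, 0, 0, 0, 0, 0, 0, 0, 0, 0, 0, 0, 0, 0, 0, 0, 0, 0, 0, 0, 1, 1, 1],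
    [0, 0, 0, 0, 0, 0, 0, 0, 0, 0, 0, 0, 0, 0, 0, 0, 0, 0, 0, 0, 0, 0, 0, 0, 0, 0, 0, 0, 0, 0, 0, 0, 0, 0, 0, 0, 0, 0, 0, 0, 0, 0, 0, 0, 0, 0, 0, 0, 0, 0, 0, 0, 0, 0, 0, 0, 0, 0, 0, 0, 0, 1],
    [0, 0, 0, 0, 0, 0, 0, 0, 0, 0, 0, 0, 0, 0, 0, 0, 0, 0, 0, 0, 0, 0, 0, 0, 0, 0, 0, 0, 0, 0, 1, 0, 0, 0, 0, 0, 0, 0, 0, 1, 0, 0, 1, 0, 0, 0, 0, 0, 0, 0, 0, 0, 0, 0, 1],
    [0, 0, 0, 0, 0, 0, 0, 0, 0, 1, 0, 0, 0, 0, 0, 0, 0, 0, 0, 0, 0, 0, 0, 0, 0, 0, 0, 0, 0, 0, 0, 0, 0, 0, 0, 0, 0, 0, 1, 1, 1, 1, 1, 0, 0, 0, 0, 1, 1],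
    [0, 0, 0, 0, 0, 1, 0, 0, 1, 1, 0, 0, 0, 0, 0, 0, 0, 0, 0, 0, 0, 0, 0, 0, 1, 0, 0, 0, 0, 0, 0, 0, 0, 0, 0, 0, 0, 0, 0, 0, 0, 0, 1, 0, 0, 0, 0, 0, 0, 0, 0, 1, 0, 0, 0, 0, 0, 0, 0, 0, 0, 0, 0, 0, 0, 0, 0, 0, 0, 0, 0, 0, 0, 0, 0, 0, 0, 0, 0, 0, 0, 0, 0, 0, 1],
    [0, 0, 1, 0, 0, 0, 0, 0, 1, 0, 0, 0, 0, 0, 0, 0, 0, 0, 0, 0, 0, 0, 0, 0, 0, 0, 0, 0, 0, 0, 0, 0, 0, 1, 0, 0, 0, 0, 0, 0, 0, 0, 0, 0, 0, 1, 0, 0, 1],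
    [0, 0, 0, 0, 0, 0, 0, 0, 0, 0, 0, 0, 0, 0, 0, 0, 0, 0, 0, 0, 0, 0, 0, 0, 1, 0, 0, 0, 0, 1, 0, 0, 0, 0, 0, 0, 0, 0, 1, 0, 1, 1, 1, 1, 0, 1, 0, 0, 1, 0, 0, 0, 1],
    [0, 0, 0, 0, 0, 0, 0, 0, 0, 0, 0, 0, 0, 0, 0, 0, 0, 0, 0, 0, 0, 0, 0, 0, 0, 0, 0, 0, 0, 0, 0, 0, 0, 0, 0, 0, 0, 0, 0, 0, 0, 0, 0, 0, 0, 0, 0, 0, 0, 0, 0, 0, 0, 0, 0, 0, 0, 0, 0, 0, 0, 0, 0, 0, 0, 0, 0, 0, 0, 0, 0, 0, 0, 0, 0, 0, 0, 0, 0, 0, 0, 0, 1, 1],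
    [0, 0, 0, 0, 0, 0, 0, 0, 0, 0, 0, 0, 0, 0, 0, 0, 0, 0, 1, 0, 0, 0, 0, 0, 0, 0, 0, 1, 0, 0, 0, 0, 0, 1, 0, 1, 0, 1, 0, 0, 0, 0, 1, 0, 1, 0, 0, 0, 0, 0, 0, 0, 0, 0, 0, 0, 0, 0, 0, 0, 0, 0, 0, 0, 0, 0, 0, 0, 0, 0, 0, 0, 0, 0, 0, 0, 0, 0, 0, 0, 0, 0, 0, 0, 1],
    [1, 0, 1, 0, 1, 1, 0, 1, 1, 1, 0, 0, 0, 0, 0, 0, 1, 0, 0, 0, 0, 0, 1, 0, 0, 0, 0, 0, 0, 0, 0, 0, 0, 0, 0, 1, 0, 0, 0, 0, 1, 0, 0, 1, 0, 0, 0, 0, 0, 0, 1, 0, 0, 0, 1],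
    [0, 0, 0, 0, 1, 1, 1, 1, 1, 0, 0, 0, 0, 0, 0, 0, 0, 0, 0, 0, 0, 0, 0, 0, 1, 0, 0, 0, 0, 0, 0, 0, 0, 0, 0, 1, 1, 0, 0, 0, 0, 0, 1, 1, 0, 1, 0, 0, 0, 0, 1, 0, 0, 1, 1, 0, 0, 0, 0, 0, 0, 0, 0, 0, 0, 0, 0, 0, 0, 0, 0, 0, 0, 0, 0, 0, 0, 0, 0, 0, 0, 0, 0, 0, 1],
    [0, 0, 0, 0, 1, 0, 1, 1, 0, 0, 0, 0, 0, 0, 0, 0, 1, 0, 0, 0, 0, 0, 0, 0, 0, 1, 0, 0, 0, 0, 0, 1, 0, 0, 0, 0, 0, 1, 0, 0, 0, 0, 0, 0, 0, 0, 0, 0, 0, 0, 1, 0, 1],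
    [0, 0, 0, 0, 0, 0, 0, 0, 0, 0, 0, 0, 0, 0, 0, 0, 0, 0, 0, 0, 1, 0, 1, 0, 1, 0, 0, 0, 0, 0, 0, 0, 0, 0, 0, 0, 0, 0, 1, 0, 1, 0, 1, 0, 0, 0, 0, 0, 0, 0, 1],
    [0, 0, 0, 0, 0, 0, 0, 1, 1, 0, 0, 0, 0, 0, 0, 0, 0, 0, 0, 0, 0, 1, 0, 0, 0, 0, 1, 0, 0, 0, 1, 0, 0, 0, 0, 0, 0, 1, 0, 0, 0, 0, 0, 1, 1, 1, 0, 0, 0, 0, 0, 0, 0, 0, 0, 0, 0, 0, 0, 0, 0, 0, 0, 0, 0, 0, 0, 0, 0, 0, 0, 0, 0, 0, 0, 0, 0, 0, 0, 0, 0, 0, 0, 1],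
    [0, 0, 0, 0, 0, 0, 0, 1, 1, 0, 0, 0, 0, 0, 0, 0, 0, 1, 0, 0, 0, 1, 0, 1, 0, 0, 0, 0, 0, 1, 1, 0, 0, 0, 0, 0, 0, 1, 0, 0, 0, 0, 1, 0, 0, 0, 0, 0, 0, 1, 0, 0, 1, 0, 1, 0, 0, 0, 0, 0, 0, 0, 0, 0, 0, 0, 0, 0, 0, 0, 0, 0, 0, 0, 0, 0, 0, 0, 0, 0, 0, 0, 1],
    [0, 0, 0, 0, 0, 0, 0, 0, 0, 1, 0, 1, 0, 0, 0, 0, 0, 0, 1, 0, 1, 0, 0, 0, 1, 0, 0, 0, 0, 0, 0, 0, 0, 0, 0, 1, 0, 0, 0, 0, 1, 0, 1, 1, 0, 0, 0, 0, 0, 0, 0, 1, 0, 1, 1, 0, 0, 0, 0, 0, 0, 1],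
    [0, 1, 0, 0, 1, 0, 0, 1, 1, 0, 0, 0, 0, 0, 0, 0, 0, 1, 0, 0, 0, 0, 0, 0, 0, 0, 1, 0, 0, 1, 0, 0, 0, 0, 0, 0, 0, 1, 0, 0, 0, 0, 1, 0, 1, 0, 0, 1, 0, 0, 1, 1, 1, 1, 0, 0, 0, 0, 0, 0, 0, 0, 0, 0, 0, 0, 0, 0, 0, 0, 0, 0, 1],
    [0, 0, 0, 0, 0, 0, 0, 1, 1, 0, 0, 0, 0, 0, 0, 0, 0, 0, 0, 0, 1, 0, 1, 1, 0, 1, 0, 1, 1, 0, 1, 0, 0, 1, 0, 0, 1, 1, 0, 0, 0, 1, 0, 0, 1, 1, 1, 0, 0, 1, 1, 1, 1, 0, 1],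
    [0, 0, 0, 0, 1, 1, 0, 1, 0, 0, 0, 1, 1, 0, 0, 1, 0, 0, 1, 0, 0, 0, 1, 0, 0, 0, 0, 0, 0, 0, 1, 0, 1, 0, 0, 0, 1, 0, 0, 1, 0, 0, 1, 1, 0, 0, 0, 0, 0, 0, 0, 1, 1, 0, 0, 0, 0, 0, 0, 0, 0, 0, 0, 0, 0, 0, 0, 0, 0, 0, 0, 0, 0, 0, 0, 0, 0, 0, 0, 1, 0, 1, 0, 1],
    [0, 0, 0, 0, 0, 0, 0, 0, 1, 1, 0, 0, 1, 0, 0, 0, 0, 0, 0, 0, 0, 0, 0, 1, 0, 0, 0, 1, 0, 1, 1, 0, 0, 0, 1, 1, 0, 0, 0, 0, 1, 1, 0, 1, 0, 0, 0, 0, 0, 0, 1, 1, 0, 0, 1, 0, 0, 0, 0, 0, 0, 0, 0, 0, 0, 0, 0, 0, 0, 0, 0, 0, 0, 0, 0, 0, 0, 0, 0, 1, 1],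
    [0, 0, 0, 0, 0, 0, 0, 1, 1, 1, 0, 0, 0, 0, 0, 0, 0, 1, 0, 0, 0, 1, 0, 0, 1, 1, 0, 1, 1, 0, 1, 0, 1, 0, 1, 1, 0, 0, 0, 0, 1, 0, 1, 1, 1, 0, 0, 0, 1, 1, 1, 1, 1, 0, 0, 0, 0, 0, 0, 0, 0, 0, 0, 0, 0, 0, 0, 0, 0, 0, 1],
    [0, 1, 0, 0, 1, 1, 1, 0, 0, 1, 0, 0, 0, 0, 1, 0, 0, 0, 0, 1, 0, 0, 0, 1, 0, 0, 1, 0, 1, 1, 0, 0, 0, 0, 0, 0, 0, 0, 0, 0, 0, 0, 1, 0, 1, 0, 0, 0, 0, 0, 0, 1, 0, 0, 0, 0, 0, 0, 0, 0, 0, 0, 0, 0, 0, 0, 0, 0, 0, 0, 0, 0, 0, 0, 0, 0, 0, 0, 0, 1, 1, 1, 1],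
    [1, 0, 1, 1, 0, 1, 1, 1, 0, 0, 0, 1, 0, 1, 0, 1, 0, 0, 1, 0, 1, 0, 1, 0, 1, 0, 0, 1, 0, 1, 1, 1, 0, 0, 1, 0, 0, 1, 0, 0, 1, 1, 0, 1, 1, 1, 0, 0, 1, 1, 1, 0, 1, 1, 1, 0, 0, 0, 0, 0, 0, 0, 0, 0, 0, 0, 0, 0, 0, 0, 0, 0, 1],
    [0, 0, 0, 0, 0, 0, 1, 1, 0, 1, 1, 0, 1, 0, 1, 0, 0, 1, 1, 1, 0, 1, 1, 0, 1, 0, 0, 1, 1, 0, 0, 0, 1, 1, 0, 1, 1, 0, 0, 0, 1, 0, 1, 0, 0, 1, 0, 0, 1, 1, 0, 0, 1, 1, 1, 0, 0, 0, 0, 0, 0, 0, 0, 0, 0, 0, 0, 0, 0, 0, 1, 0, 1],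
    [0, 0, 0, 0, 1, 1, 0, 0, 1, 0, 1, 0, 0, 0, 0, 0, 0, 0, 0, 0, 0, 0, 0, 1, 0, 1, 1, 0, 0, 1, 1, 0, 0, 0, 1, 0, 0, 1, 1, 0, 0, 0, 0, 1, 1, 1, 0, 0, 0, 1, 0, 1, 0, 1, 1, 0, 0, 0, 0, 0, 0, 0, 0, 0, 0, 0, 0, 0, 0, 0, 0, 0, 0, 0, 0, 0, 0, 0, 0, 0, 1, 1, 0, 1, 1],
    [0, 0, 0, 0, 0, 1, 1, 1, 1, 0, 0, 0, 0, 1, 0, 1, 0, 1, 0, 0, 0, 1, 1, 1, 1, 0, 1, 1, 1, 1, 1, 0, 0, 1, 0, 1, 0, 1, 1, 1, 1, 0, 1, 1, 0, 0, 0, 1, 0, 1, 0, 1, 0, 1, 0, 0, 0, 0, 0, 0, 0, 0, 0, 0, 0, 0, 0, 0, 0, 0, 0, 0, 0, 0, 0, 0, 0, 0, 0, 1, 0, 0, 1]]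
  tgt := [
    ([], []),
    ([], []),
    ([], []),
    ([], []),
    ([], [(0, 1), (1, 1), (4, 1), (7, 1), (8, 1), (11, 1), (18, 1), (19, 1), (20, 1), (22, 1), (24, 1), (26, 1), (30, 1), (31, 1), (34, 1), (35, 1), (37, 1), (38, 1), (42, 1)]),
    ([], [(0, 1), (1, 1), (2, 1), (7, 1), (8, 1), (9, 1), (11, 1), (18, 1), (22, 1), (24, 1), (27, 1), (28, 1), (29, 1), (30, 1), (35, 1), (36, 1), (37, 1), (38, 1)]),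
    ([], [(0, 1), (1, 1), (2, 1), (3, 1), (4, 1), (7, 1), (8, 1), (11, 1), (18, 1), (19, 1), (22, 1), (24, 1), (25, 1), (28, 1), (30, 1), (31, 1), (34, 1), (35, 1), (36, 1), (37, 1), (38, 1)]),
    ([], [(3, 1), (7, 1), (9, 1), (21, 1), (22, 1), (28, 1)]),
    ([], [(8, 1), (12, 1), (25, 1)]),
    ([], [(7, 1), (9, 1), (19, 1), (21, 1)]),
    ([], []),
    ([], []),
    ([], [(1, 1), (2, 1), (3, 1), (8, 1), (9, 1), (11, 1), (12, 1), (16, 1), (17, 1), (18, 1), (19, 1), (21, 1), (22, 1), (30, 1), (31, 1), (32, 1), (33, 1), (34, 1), (37, 1), (38, 1), (40, 1), (44, 1), (46, 1), (47, 1), (49, 1), (52, 1), (53, 1), (54, 1), (55, 1), (56, 1), (57, 1)]),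
    ([], [(0, 1), (1, 1), (2, 1), (5, 1), (6, 1), (7, 1), (9, 1), (13, 1), (16, 1), (17, 1), (18, 1), (20, 1), (22, 1), (23, 1), (27, 1), (28, 1), (29, 1), (31, 1), (32, 1), (42, 1), (44, 1), (45, 1), (46, 1), (48, 1), (50, 1), (51, 1), (54, 1), (56, 1)]),
    ([], [(0, 1), (3, 1), (4, 1), (8, 1), (10, 1), (12, 1), (13, 1), (15, 1), (17, 1), (19, 1), (20, 1), (24, 1), (25, 1), (26, 1), (27, 1), (28, 1), (30, 1), (32, 1), (33, 1), (38, 1), (39, 1), (41, 1), (43, 1), (45, 1), (47, 1), (48, 1), (53, 1), (54, 1), (56, 1), (57, 1)]),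
    ([], [(3, 1), (7, 1), (8, 1), (13, 1), (15, 1), (16, 1), (17, 1), (19, 1), (23, 1), (26, 1), (28, 1), (29, 1), (30, 1), (32, 1), (33, 1), (35, 1), (38, 1), (39, 1), (41, 1), (43, 1), (47, 1), (49, 1), (50, 1), (51, 1), (56, 1)]),
    ([], [(4, 1), (7, 1), (8, 1), (9, 1), (12, 1), (18, 1), (21, 1), (25, 1), (27, 1), (29, 1), (31, 1), (32, 1), (34, 1), (36, 1), (39, 1), (41, 1), (42, 1)]),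
    ([], [(0, 1), (2, 1), (5, 1), (6, 1), (7, 1), (8, 1), (9, 1), (10, 1), (11, 1), (12, 1), (13, 1), (16, 1), (17, 1), (18, 1), (20, 1), (25, 1), (32, 1), (34, 1), (35, 1), (38, 1), (41, 1), (43, 1), (45, 1), (46, 1)]),
    ([], [(1, 1), (2, 1), (3, 1), (4, 1), (8, 1), (12, 1), (13, 1), (18, 1), (19, 1), (20, 1), (22, 1), (24, 1), (25, 1), (26, 1), (32, 1), (33, 1), (34, 1), (35, 1), (39, 1), (44, 1), (47, 1)]),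
    ([], [(1, 1), (5, 1), (6, 1), (11, 1), (16, 1), (18, 1), (19, 1), (21, 1), (26, 1), (27, 1), (29, 1), (30, 1), (31, 1), (32, 1), (34, 1), (36, 1), (37, 1), (39, 1), (41, 1), (42, 1), (43, 1)]),
    ([], [(2, 1), (4, 1), (7, 1), (10, 1), (15, 1), (18, 1), (27, 1), (29, 1), (32, 1), (34, 1), (39, 1), (44, 1)]),
    ([], [(4, 1), (9, 1), (11, 1), (12, 1), (14, 1), (16, 1), (17, 1), (19, 1), (21, 1), (25, 1), (26, 1), (27, 1), (31, 1), (32, 1), (33, 1), (39, 1), (40, 1), (47, 1), (49, 1)]),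
    ([], [(0, 1), (2, 1), (8, 1), (9, 1), (10, 1), (11, 1), (13, 1), (15, 1), (18, 1), (22, 1), (28, 1), (30, 1), (32, 1), (37, 1), (38, 1), (39, 1)]),
    ([], [(1, 1), (3, 1), (4, 1), (5, 1), (6, 1), (7, 1), (8, 1), (10, 1), (11, 1), (13, 1), (18, 1), (19, 1), (21, 1), (22, 1), (24, 1), (26, 1), (29, 1), (30, 1), (31, 1), (33, 1), (34, 1), (35, 1), (37, 1), (38, 1), (40, 1), (41, 1), (43, 1), (47, 1), (49, 1)]),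
    ([], [(0, 1), (1, 1), (2, 1), (3, 1), (7, 1), (10, 1), (11, 1), (12, 1), (19, 1), (22, 1), (24, 1), (27, 1), (28, 1), (30, 1), (35, 1), (37, 1), (38, 1)]),
    ([], [(0, 1), (7, 1), (8, 1), (12, 1), (18, 1), (22, 1), (26, 1), (27, 1), (29, 1), (31, 1), (32, 1), (34, 1), (39, 1), (41, 1), (43, 1)]),
    ([], [(7, 1), (8, 1), (11, 1), (16, 1), (17, 1), (19, 1), (20, 1), (21, 1), (24, 1), (26, 1), (28, 1), (31, 1), (32, 1), (33, 1), (39, 1), (40, 1), (47, 1), (49, 1)]),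
    ([], [(2, 1), (4, 1), (13, 1), (19, 1), (20, 1), (24, 1), (25, 1), (29, 1), (32, 1), (33, 1), (34, 1), (35, 1), (37, 1), (39, 1), (40, 1), (44, 1), (47, 1)]),
    ([], [(5, 1), (8, 1)]),
    ([], [(0, 1), (1, 1), (2, 1), (3, 1), (7, 1), (9, 1), (11, 1), (12, 1), (22, 1), (25, 1), (28, 1), (30, 1), (37, 1)]),
    ([], [(7, 1), (21, 1), (25, 1), (27, 1), (29, 1), (34, 1)]),
    ([], [(0, 1)]),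
    ([], [(19, 1), (20, 1), (21, 1), (23, 1), (26, 1)]),
    ([], [(1, 1), (7, 1), (8, 1), (12, 1), (21, 1), (25, 1), (37, 1)]),
    ([], [(0, 1), (1, 1), (7, 1), (9, 1), (12, 1), (19, 1), (25, 1), (30, 1), (37, 1)]),
    ([], [(7, 1), (20, 1), (26, 1)]),
    ([], [(7, 1)]),
    ([], [(7, 1), (20, 1)]),
    ([], [(0, 1), (1, 1), (2, 1), (3, 1), (4, 1), (7, 1), (10, 1), (11, 1), (12, 1), (15, 1), (19, 1), (22, 1), (24, 1), (28, 1), (30, 1), (34, 1), (35, 1), (37, 1), (38, 1)]),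
    ([], [(3, 1), (10, 1), (22, 1), (27, 1)]),
    ([], [(0, 1), (2, 1), (8, 1), (9, 1), (10, 1), (11, 1), (13, 1), (15, 1), (21, 1), (22, 1), (25, 1), (28, 1), (30, 1), (37, 1), (38, 1)]),
    ([], [(3, 1), (7, 1), (8, 1), (12, 1), (13, 1), (21, 1), (27, 1), (29, 1), (34, 1)]),
    ([], [(7, 1), (10, 1), (21, 1), (25, 1), (29, 1)]),
    ([], [(25, 1)]),
    ([], [(3, 1), (10, 1), (22, 1)]),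
    ([], [(7, 1), (21, 1)]),
    ([], [(6, 1)]),
    ([], [(3, 1), (4, 1), (22, 1), (24, 1)]),
    ([], [(1, 1)]),
    ([], [(8, 1)]),
    ([], [(2, 1)]),
    ([], [(3, 1)]),
    ([], [(4, 1)]),
    ([], [(7, 1), (19, 1), (21, 1)]),
    ([], [(3, 1), (22, 1)])]

/-- A word from its exponents. -/
def dec : ℕ → ℕ → ℕ → List ℕ
  | 0, _, _ => []
  | k + 1, i, e => List.replicate (e % 2) i ++ dec k (i + 1) (e / 2)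

/-- part of an orbit -/
def orb0_0 : List (ℕ × ℕ) := [(1, 0), (12, 209), (25, 132), (31, 44), (32, 640), (38, 40), (43, 518), (45, 81), (53, 328), (62, 19), (71, 216), (74, 20), (82, 656), (84, 197), (115, 16), (120, 137), (135, 24), (138, 308), (146, 336), (148, 138), (179, 304), (184, 212), (199, 136), (202, 196), (210, 576), (212, 776), (243, 192), (248, 292), (256, 593), (262, 6), (267, 200), (269, 128), (275, 76), (280, 840), (289, 49), (300, 512), (306, 204), (308, 644), (341, 276), (350, 528), (359, 532), (362, 56), (377, 37), (383, 144), (405, 52), (414, 18), (423, 468), (426, 536), (441, 408), (447, 848), (469, 452), (478, 32), (487, 36), (490, 648), (505, 264), (511, 64), (517, 256), (526, 516), (546, 456), (548, 896), (561, 584), (572, 260), (579,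 69), (584, 14)]

/-- part of an orbit -/
def orb0_1 : List (ℕ × ℕ) := [(592, 88), (598, 912), (603, 321), (605, 265), (617, 65), (623, 521), (631, 272), (634, 270), (643, 10), (648, 257), (656, 152), (662, 80), (667, 129), (669, 340), (681, 385), (687, 596), (695, 48), (698, 1), (707, 904), (712, 140), (720, 8), (726, 2), (731, 268), (733, 580), (745, 12), (751, 324), (759, 448), (762, 396), (777, 384), (783, 296), (785, 772), (796, 72), (803, 4), (808, 768), (834, 9), (836, 577), (855, 289), (858, 784), (869, 33), (878, 581), (880, 148), (886, 3), (891, 400), (893, 600), (898, 84), (900, 897), (919, 513), (922, 208), (933, 769), (942, 280), (944, 852), (950, 641), (955, 592), (957, 5), (962, 836), (964, 524), (983, 273), (986, 288), (997, 17), (1006, 392),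 (1008, 68), (1014, 780), (1019, 320), (1021, 520)]

/-- part of an orbit -/
def orb1_0 : List (ℕ × ℕ) := [(4, 0), (328, 47), (392, 546), (456, 413), (512, 224), (844, 719), (908, 194), (972, 381)]

/-- Orbits inside the subgroup. -/
def orbits : List (ℕ × List (ℕ × List ℕ)) := [(1, orb0_0 ++ orb0_1), (4, orb1_0)].map fun t => (t.1, t.2.map fun e => (e.1, dec 10 0 e.2))

theorem checks : checksU 2 10 mats cert sw gw orbits = true := by decide +kernel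

theorem lin_ok : cert.linOK = true :=
  CfsgLib.Spor.SchurCert.Packed.linOK_of_linP cert (by decide +kernel)

end CfsgLib.Lie.MultExc.UFiveTwo.P2
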