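import Cfsg.Agent.Lib.Lie.MultExc.MatCert.Bridge
import Cfsg.Agent.Lib.Spor.Fi22.U6.Field
import Cfsg.Agent.Lib.SU.Basic
import Cfsg.Agent.Lib.Classical.HermOrder

/-!
`SU(5,2)` acting on ten coordinates over the field with two elements, and transvections with coded columns.
-/

set_option autoImplicit false
set_option linter.all false

namespace CfsgLib.Lie.MultExc.UFiveTwo

open Matrix CfsgLib.SU CfsgLib.Lie.MultExc.MatCert CfsgLib.Spor.Fi22.U6

/-- multiplication by an element of the field with four elements, in the basis `1, w` -/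
def psi : Four → Matrix (Fin 2) (Fin 2) (ZMod 2)
  | .o => !![0, 0; 0, 0]
  | .e => !![1, 0; 0, 1]
  | .w => !![0, 1; 1, 1]
  | .u => !![1, 1; 1, 0]

theorem psi_one : psi 1 = 1 := by decide
theorem psi_zero : psi 0 = 0 := by decide
theorem psi_mul : ∀ a b : Four, psi (a * b) = psi a * psi b := by decide
theorem psi_add : ∀ a b : Four, psi (a + b) = psi a + psi b := by decide
theorem psi_inj : Function.Injective psi := by unfold Function.Injective; decide

/-- the two parts of a coordinate -/
def pr (r : Fin 10) : Fin 5 × Fin 2 := (finProdFinEquiv (m := 5) (n := 2)).symm r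

/-- the matrix on ten coordinates -/
def realify (M : Matrix (Fin 5) (Fin 5) Four) : Matrix (Fin 10) (Fin 10) (ZMod 2) :=
  Matrix.of fun r c => psi (M (pr r).1 (pr c).1) (pr r).2 (pr c).2

theorem realify_one : realify 1 = 1 := by
  ext r c
  show psi ((1 : Matrix (Fin 5) (Fin 5) Four) (pr r).1 (pr c).1) (pr r).2 (pr c).2 = _
  rw [Matrix.one_apply, Matrix.one_apply]
  by_cases h : r = c
  · rw [h, if_pos rfl, if_pos rfl, psi_one, Matrix.one_apply_eq]
  · rw [if_neg h]
    by_cases h1 : (pr r).1 = (pr c).1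
    · rw [if_pos h1, psi_one, Matrix.one_apply_ne]
      exact fun h2 => h ((finProdFinEquiv (m := 5) (n := 2)).symm.injective (Prod.ext h1 h2))
    · rw [if_neg h1, psi_zero]; rfl

theorem psi_sum {ι : Type*} (s : Finset ι) (f : ι → Four) : psi (∑ i ∈ s, f i) = ∑ i ∈ s, psi (f i) :=
  map_sum (⟨⟨psi, psi_zero⟩, psi_add⟩ : Four →+ Matrix (Fin 2) (Fin 2) (ZMod 2)) f s

theorem realify_mul (A B : Matrix (Fin 5) (Fin 5) Four) : realify (A * B) = realify A * realify B := by
  ext r c
  show psi ((A * B) (pr r).1 (pr c).1) (pr r).2 (pr c).2 = _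
  rw [Matrix.mul_apply, psi_sum, Matrix.sum_apply, Matrix.mul_apply,
    ← Equiv.sum_comp (finProdFinEquiv (m := 5) (n := 2)), Fintype.sum_prod_type]
  refine Finset.sum_congr rfl fun i _ => ?_
  rw [psi_mul, Matrix.mul_apply]
  refine Finset.sum_congr rfl fun j _ => ?_
  show _ = psi (A (pr r).1 (pr _).1) (pr r).2 (pr _).2 * psi (B (pr _).1 (pr c).1) (pr _).2 (pr c).2
  rw [show pr (finProdFinEquiv (m := 5) (n := 2) (i, j)) = (i, j) from Equiv.symm_apply_apply _ _]

theorem realify_inj : Function.Injective realify := fun A B h => by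
  ext i j
  refine psi_inj (Matrix.ext fun a b => ?_)
  have h1 := congrFun (congrFun h (finProdFinEquiv (m := 5) (n := 2) (i, a))) (finProdFinEquiv (m := 5) (n := 2) (j, b))
  simp only [realify, Matrix.of_apply, pr, Equiv.symm_apply_apply] at h1
  exact h1

/-- the matrix of a transvection over four elements -/
def tmat (v : Fin 5 → Four) : Matrix (Fin 5) (Fin 5) Four :=
  Matrix.of fun i j => (if i = j then 1 else 0) + v i * (v j * v j)

/-- checks of one transvection -/
def tvOK (e : (Fin 5 → Four) × List ℕ) : Bool :=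
  decide (∑ i, e.1 i * (e.1 i * e.1 i) = 0) && decide (realify (tmat e.1) = toM (ZMod 2) 2 10 e.2)

/-- the columns of a word -/
def entryOK (T : List (List ℕ)) (e : List ℕ × List ℕ) : Bool :=
  (e.2.all fun k => Nat.blt k T.length) &&
    (List.range 10).all fun c => Nat.beq (comp 2 10 T e.2 (2 ^ c)) (e.1.getD c 0) && Nat.blt (e.1.getD c 0) (2 ^ 10)

universe u

variable {F : Type u} [Field F]

/-- the representation -/
def rho (φ : F ≃+* Four) : ↥(Cfsg.SU 5 F 2) →* Matrix (Fin 10) (Fin 10) (ZMod 2) where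
  toFun g := realify (g.1.1.map φ)
  map_one' := by
    show realify ((1 : Matrix (Fin 5) (Fin 5) F).map φ) = 1
    rw [Matrix.map_one _ (map_zero φ) (map_one φ), realify_one]
  map_mul' g h := by
    show realify ((g.1.1 * h.1.1).map φ) = _
    rw [Matrix.map_mul, realify_mul]

theorem rho_injective (φ : F ≃+* Four) : Function.Injective (rho φ) := fun g h e => by
  have h1 : g.1.1.map φ = h.1.1.map φ := realify_inj e
  exact Subtype.ext (Subtype.ext (Matrix.ext fun i j => φ.injective (congrFun (congrFun h1 i) j)))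

theorem hasElts_tv (C : UCtx F 2) (φ : F ≃+* Four) {tvs : List ((Fin 5 → Four) × List ℕ)}
    (hok : tvs.all tvOK = true) : HasElts (p := 2) (rho φ) (tvs.map Prod.snd) := by
  intro k hk
  rw [List.length_map] at hk
  have h := List.all_eq_true.1 hok _ (List.getElem_mem hk)
  simp only [tvOK, Bool.and_eq_true, decide_eq_true_eq] at h
  set v := (tvs[k]).1
  have hbar : ∀ a : F, φ (C.bar a) = φ a * φ a := fun a => by rw [C.bar_eq, map_pow, sq]
  have hv : C.form (fun i => φ.symm (v i)) (fun i => φ.symm (v i)) = 0 := by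
    apply φ.injective
    rw [map_zero, UCtx.form, map_sum]
    simp only [map_mul, hbar, RingEquiv.apply_symm_apply]
    exact h.1
  have h2 : (1 : F) + C.bar 1 = 0 := by
    apply φ.injective
    rw [map_add, hbar, map_one, map_zero]
    decide
  refine ⟨C.tv _ hv 1 h2, ?_⟩
  show realify ((C.rmap (fun i => φ.symm (v i)) (fun i => φ.symm (v i)) 1).map φ) = _
  rw [List.getD_eq_getElem _ _ (by rwa [List.length_map]), List.getElem_map, ← h.2]
  congr 1
  ext i j
  simp only [UCtx.rmap, Matrix.map_apply, Matrix.add_apply, Matrix.one_apply, Matrix.vecMulVec_apply, tmat,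
    Matrix.of_apply, Pi.smul_apply, smul_eq_mul, one_mul, map_add, map_mul, hbar, RingEquiv.apply_symm_apply]
  split <;> simp

theorem app_unit_col {p n : ℕ} (hp : 1 < p) {M : List ℕ} {c : ℕ} (hc : c < n) (hM : M.getD c 0 < p ^ n) :
    app p n M (p ^ c) = M.getD c 0 := by
  have hp0 : 0 < p := by omega
  refine dg_inj hp0 n _ _ (app_lt hp0 _ _) hM fun r hr => ?_
  rw [app, dg_pack hp0 _ n 0 r hr, Nat.zero_add, dotd_eq]
  simp only [dg_unit hp, ite_mul, one_mul, zero_mul]
  rw [Finset.sum_ite_eq' _ c, if_pos (Finset.mem_range.2 hc)]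
  exact Nat.mod_eq_of_lt (Nat.mod_lt _ hp0)

theorem hasElts_of_words {K : Type*} [Field K] {p n : ℕ} [CharP K p] {G : Type*} [Group G]
    {r : G →* Matrix (Fin n) (Fin n) K} {Ts : List (List ℕ)} (hT : HasElts (p := p) r Ts) (hp : 1 < p)
    {entries : List (List ℕ × List ℕ)}
    (he : ∀ e ∈ entries, (∀ k ∈ e.2, k < Ts.length) ∧
      ∀ c < n, comp p n Ts e.2 (p ^ c) = e.1.getD c 0 ∧ e.1.getD c 0 < p ^ n) :
    HasElts (p := p) r (entries.map Prod.fst) := by
  intro k hk
  rw [List.length_map] at hk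
  obtain ⟨hw, hcol⟩ := he _ (List.getElem_mem hk)
  obtain ⟨g, hg⟩ := exists_word hT (by omega : 0 < p) (entries[k]).2 hw
  refine ⟨g, eq_of_units hp fun c => ?_⟩
  have hge : (entries.map Prod.fst).getD k [] = (entries[k]).1 := by
    rw [List.getD_eq_getElem _ _ (by rwa [List.length_map]), List.getElem_map]
  obtain ⟨h1, h2⟩ := hcol c.1 c.2
  rw [hg, h1, hge, app_spec (by omega : 0 < p), app_unit_col hp c.2 h2]

theorem hasElts_words (C : UCtx F 2) (φ : F ≃+* Four) {tvs : List ((Fin 5 → Four) × List ℕ)}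
    (hok : tvs.all tvOK = true) {entries : List (List ℕ × List ℕ)}
    (he : entries.all (entryOK (tvs.map Prod.snd)) = true) :
    HasElts (p := 2) (rho φ) (entries.map Prod.fst) := by
  refine hasElts_of_words (hasElts_tv C φ hok) one_lt_two fun e hm => ?_
  have h := List.all_eq_true.1 he e hm
  generalize tvs.map Prod.snd = T at h ⊢
  unfold entryOK at h
  generalize hn : (10 : ℕ) = n at h ⊢
  simp only [Bool.and_eq_true, List.all_eq_true, List.mem_range] at h
  exact ⟨fun k hk => Nat.le_of_ble_eq_true (h.1 k hk), fun c hc =>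
    ⟨Nat.eq_of_beq_eq_true (h.2 c hc).1, Nat.le_of_ble_eq_true (h.2 c hc).2⟩⟩

end CfsgLib.Lie.MultExc.UFiveTwo
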