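import Cfsg.Agent.Lib.Lie.MultExc.UFiveTwo.Rep

/-!
Elements of the unitary group in dimension five over four elements as products of transvections.
-/

set_option autoImplicit false
set_option maxRecDepth 100000
set_option maxHeartbeats 0

namespace CfsgLib.Lie.MultExc.UFiveTwo

open CfsgLib.Lie.MultExc.MatCert CfsgLib.Spor.Fi22.U6

/-- Isotropic vectors with their transvections in coded columns. -/
def tvs : List ((Fin 5 → Four) × List ℕ) := [
    (![.w, .w, .w, 1, 0], [212, 104, 209, 98, 197, 74, 42, 63, 256, 512]),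
    (![.w, .u, .u, 0, 1], [808, 316, 531, 801, 519, 777, 64, 128, 62, 23]),
    (![.w, .w, 0, .u, 1], [900, 456, 897, 450, 16, 32, 527, 773, 202, 79]),
    (![1, 1, 0, 0, 0], [4, 8, 1, 2, 16, 32, 64, 128, 256, 512]),
    (![1, .w, 1, 1, 0], [88, 172, 243, 81, 73, 142, 25, 46, 256, 512]),
    (![1, 1, 1, 0, 1], [276, 552, 273, 546, 261, 522, 64, 128, 21, 42]),
    (![1, .w, 0, 1, 1], [328, 652, 963, 321, 16, 32, 265, 526, 73, 142]),
    (![.w, 1, 0, 0, 0], [12, 4, 2, 3, 16, 32, 64, 128, 256, 512]),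
    (![0, .w, 1, 0, 0], [1, 2, 48, 16, 8, 12, 64, 128, 256, 512]),
    (![0, .u, 0, 0, 1], [1, 2, 512, 768, 16, 32, 64, 128, 12, 4]),
    (![1, .w, 1, 0, 1], [280, 556, 819, 273, 265, 526, 64, 128, 25, 46]),
    (![1, 1, 1, 1, 0], [84, 168, 81, 162, 69, 138, 21, 42, 256, 512]),
    (![1, 0, 0, 0, 1], [256, 512, 4, 8, 16, 32, 64, 128, 1, 2]),
    (![1, 1, .w, 1, 0], [100, 184, 97, 178, 207, 69, 37, 58, 256, 512]),
    (![.w, 1, .u, 0, 1], [812, 308, 306, 531, 523, 781, 64, 128, 54, 27]),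
    (![1, .w, 0, .w, 1], [392, 716, 835, 385, 16, 32, 775, 265, 137, 206]),
    (![.u, 0, 1, 0, 0], [32, 48, 4, 8, 3, 1, 64, 128, 256, 512]),
    (![0, 0, .w, 0, 1], [1, 2, 4, 8, 768, 256, 64, 128, 32, 48]),
    (![0, 1, 1, .u, 1], [1, 2, 464, 608, 452, 584, 552, 828, 212, 104]),
    (![.w, 1, .w, 0, 1], [796, 292, 290, 563, 781, 262, 64, 128, 38, 59]),
    (![.w, .w, 0, .w, 1], [836, 392, 833, 386, 16, 32, 773, 266, 138, 207]),
    (![.u, .u, 1, 0, 1], [548, 824, 545, 818, 271, 517, 64, 128, 31, 37]),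
    (![1, .u, .w, 0, 1], [300, 564, 562, 787, 779, 269, 64, 128, 45, 54]),
    (![0, .w, 1, 1, 1], [1, 2, 1008, 336, 328, 652, 280, 556, 88, 172]),
    (![1, 0, 1, 0, 0], [16, 32, 4, 8, 1, 2, 64, 128, 256, 512]),
    (![.w, .w, .u, 1, 0], [228, 120, 225, 114, 143, 197, 58, 31, 256, 512]),
    (![0, 0, 0, 1, 1], [1, 2, 4, 8, 16, 32, 256, 512, 64, 128]),
    (![0, .u, .w, .u, 1], [1, 2, 624, 912, 904, 460, 564, 792, 236, 116]),
    (![0, 1, 1, 0, 0], [1, 2, 16, 32, 4, 8, 64, 128, 256, 512]),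
    (![.u, .w, 1, 1, 0], [172, 244, 242, 83, 75, 141, 27, 45, 256, 512]),
    (![.w, .u, 0, .w, 1], [840, 396, 707, 833, 16, 32, 777, 270, 142, 199]),
    (![1, 0, .u, .w, 1], [432, 720, 4, 8, 706, 835, 803, 305, 177, 210])]

/-- The matrices and their words in the transvections. -/
def entries : List (List ℕ × List ℕ) := [
    ([698, 991, 1003, 381, 621, 950, 859, 429, 695, 985], [0, 1, 2]),
    ([726, 875, 972, 324, 430, 759, 890, 415, 900, 456], [3, 4, 5, 6]),
    ([803, 305, 26, 47, 812, 308, 64, 128, 783, 261], [7, 8, 9, 10]),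
    ([720, 864, 682, 1023, 917, 490, 840, 396, 834, 387], [11, 12, 3, 13, 14, 15]),
    ([115, 145, 958, 471, 241, 82, 365, 694, 869, 442], [16, 7, 11, 17, 18]),
    ([478, 615, 844, 388, 938, 511, 630, 923, 964, 328], [7, 11, 19, 20]),
    ([511, 597, 844, 388, 953, 478, 630, 923, 964, 328], [16, 7, 11, 19, 20]),
    ([269, 518, 54, 27, 792, 300, 64, 128, 289, 562], [21, 1]),
    ([517, 778, 545, 818, 284, 548, 64, 128, 31, 37], [16, 21]),
    ([300, 564, 562, 787, 779, 269, 64, 128, 45, 54], [22]),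
    ([12, 4, 2, 3, 16, 32, 64, 128, 256, 512], [7]),
    ([244, 88, 1002, 383, 416, 752, 479, 613, 163, 241], [16, 23, 24, 25, 26, 27]),
    ([494, 631, 634, 927, 939, 509, 694, 987, 749, 886], [3, 28, 29, 30, 31])]

/-- The matrices. -/
def mats : List (List ℕ) := entries.map Prod.fst

theorem tvs_ok : tvs.all tvOK = true := by decide +kernel

theorem entries_ok : entries.all (entryOK (tvs.map Prod.snd)) = true := by decide +kernel

end CfsgLib.Lie.MultExc.UFiveTwo
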